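import Groth.Agent.Lib.EulerLin16.Basic
import Groth.Agent.Lib.Snapper.TopDecomp
import Groth.Agent.Lib.Snapper.PushEuler
import Groth.Agent.Lib.ProjFormula.Iso
import Groth.Agent.Lib.Ample.Functorial
import Groth.Agent.Lib.RelProjK.Local
import Groth.Agent.Lib.QCoh.Devissage

/-!
# Linearity of the Euler characteristic of line bundles over an Artinian base
-/

set_option autoImplicit false
set_option linter.all false
set_option backward.isDefEq.respectTransparency false
set_option maxHeartbeats 1000000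

universe u

open CategoryTheory CategoryTheory.Limits AlgebraicGeometry TopologicalSpace
open GrothLib.Euler (tF)

noncomputable section

namespace GrothLib.EulerLin16

/-- `G ⊗ M ≅ M ⊗ G`. -/
def braid {X : Scheme.{u}} (M G : X.Modules) :
    ((DCoh.tensorBi (X := X)).obj M).obj G ≅ ((DCoh.tensorBi (X := X)).obj G).obj M :=
  (((OX.tensorBraiding (X := X)).app M).app G).symm

/-- The projection formula for a twist. -/
def twistPush {Z X : Scheme.{u}} (i : Z ⟶ X) {M : X.Modules} (G : Z.Modules)
    [IsIso (ProjFormula.projHom i M G)] :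
    (tF M).obj ((Scheme.Modules.pushforward i).obj G) ≅
      (Scheme.Modules.pushforward i).obj ((tF ((Scheme.Modules.pullback i).obj M)).obj G) :=
  braid _ _ ≪≫ asIso (ProjFormula.projHom i M G) ≪≫
    (Scheme.Modules.pushforward i).mapIso (braid _ _)

variable (A : Type u) [CommRing A] [IsArtinianRing A] {X : Scheme.{u}} [X.Over (Spec (CommRingCat.of A))]
  [IsProper (X ↘ Spec (CommRingCat.of A))] (hd : topologicalKrullDim X ≤ 1)

/-- The bilinearity defect vanishes. -/
def P (F : X.Modules) : Prop :=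
  ∀ L M : X.Modules, PicF.IsInvertible L → PicF.IsInvertible M →
    ch A ((tF M).obj ((tF L).obj F)) + ch A F = ch A ((tF L).obj F) + ch A ((tF M).obj F)

theorem P_of_iso {F G : X.Modules} (e : F ≅ G) (h : P A F) : P A G := fun L M hL hM => by
  rw [← ch_of_iso A e, ← ch_of_iso A ((tF L).mapIso e), ← ch_of_iso A ((tF M).mapIso e),
    ← ch_of_iso A ((tF M).mapIso ((tF L).mapIso e))]
  exact h L M hL hM

theorem P_of_isZero {F : X.Modules} (h : IsZero F) : P A F := fun L M hL hM => by
  haveI : (tF L).Additive := inferInstance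
  haveI : (tF M).Additive := inferInstance
  have h1 : ∀ (N G : X.Modules), IsZero G → IsZero ((tF N).obj G) := fun N G hG => by
    rw [IsZero.iff_id_eq_zero] at hG ⊢
    rw [← CategoryTheory.Functor.map_id, hG, Functor.map_zero]
  rw [ch_of_isZero A h, ch_of_isZero A (h1 L F h), ch_of_isZero A (h1 M F h),
    ch_of_isZero A (h1 M _ (h1 L F h))]

include hd in
theorem ch_tF_tF_add {S : ShortComplex X.Modules} (hS : S.ShortExact) (h1 : Coh.IsCoh S.X₁) (h2 : Coh.IsCoh S.X₂)
    (h3 : Coh.IsCoh S.X₃) {L M : X.Modules} (hL : PicF.IsInvertible L) (hM : PicF.IsInvertible M) :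
    ch A ((tF M).obj ((tF L).obj S.X₂)) =
      ch A ((tF M).obj ((tF L).obj S.X₁)) + ch A ((tF M).obj ((tF L).obj S.X₃)) := by
  have hlf := Euler.isFinLocFree_of_isInvertible hL
  haveI := isNoetherian_of_proper A (X := X)
  have hT := OX.tensor_map_shortExact (OX.flat_of_isFinLocFree hlf) hS
  have c1 : Coh.IsCoh ((tF L).obj S.X₁) := Euler.isCoh_tF h1 hlf
  have c2 : Coh.IsCoh ((tF L).obj S.X₂) := Euler.isCoh_tF h2 hlf
  have c3 : Coh.IsCoh ((tF L).obj S.X₃) := Euler.isCoh_tF h3 hlf
  have key := @ch_tF_add A _ X _ _ _ hd _ hT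
  simp only [ShortComplex.map_X₁, ShortComplex.map_X₂, ShortComplex.map_X₃] at key
  exact key c1 c2 c3 hM

include hd in
theorem P_two_of_three (S : ShortComplex X.Modules) (hS : S.ShortExact) (h1 : Coh.IsCoh S.X₁)
    (h2 : Coh.IsCoh S.X₂) (h3 : Coh.IsCoh S.X₃) :
    (P A S.X₁ → P A S.X₂ → P A S.X₃) ∧ (P A S.X₁ → P A S.X₃ → P A S.X₂) ∧ (P A S.X₂ → P A S.X₃ → P A S.X₁) := by
  refine ⟨fun p q L M hL hM => ?_, fun p q L M hL hM => ?_, fun p q L M hL hM => ?_⟩ <;>
  · have e0 := ch_add A hd hS h1 h2 h3
    have e1 := ch_tF_add A hd hS h1 h2 h3 hL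
    have e2 := ch_tF_add A hd hS h1 h2 h3 hM
    have e3 := ch_tF_tF_add A hd hS h1 h2 h3 hL hM
    have hp := p L M hL hM
    have hq := q L M hL hM
    linarith

include hd in
theorem P_push {Z : Scheme.{u}} (i : Z ⟶ X) [IsClosedImmersion i] [IsIntegral Z] :
    P A ((Scheme.Modules.pushforward i).obj (Coh.structureModule Z)) := by
  intro L M hL hM
  letI : Z.Over (Spec (CommRingCat.of A)) := ⟨i ≫ X ↘ Spec (CommRingCat.of A)⟩
  haveI : IsProper (Z ↘ Spec (CommRingCat.of A)) := inferInstanceAs (IsProper (i ≫ X ↘ Spec (CommRingCat.of A)))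
  haveI := isNoetherian_of_proper A (X := X)
  haveI := isNoetherian_of_proper A (X := Z)
  have hdZ : topologicalKrullDim Z ≤ 1 :=
    (IsClosedImmersion.base_closed (f := i)).isInducing.topologicalKrullDim_le.trans hd
  set L' := (Scheme.Modules.pullback i).obj L
  set M' := (Scheme.Modules.pullback i).obj M
  have hL' : PicF.IsInvertible L' := RelProjK.isInvertible_pullback i hL
  have hM' : PicF.IsInvertible M' := RelProjK.isInvertible_pullback i hM
  have hO : Coh.IsCoh (Coh.structureModule Z) := Euler.isCoh_of_isInvertible Euler.isInvertible_structure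
  have hpush : ∀ G : Z.Modules, Coh.IsCoh G → ch A ((Scheme.Modules.pushforward i).obj G) = ch A G := by
    intro G hG
    haveI := hG.1
    rw [ch, ch, (Snapper.nonempty_HH_linearEquiv_pushforward (A := A) i rfl G 0).some.length_eq,
      (Snapper.nonempty_HH_linearEquiv_pushforward (A := A) i rfl G 1).some.length_eq]
  have hiso : ∀ (N : X.Modules), PicF.IsInvertible N → ∀ G : Z.Modules,
      IsIso (ProjFormula.projHom i N G) := fun N hN G =>
    ProjFormula.isIso_projHom i (Euler.isFinLocFree_of_isInvertible hN) G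
  haveI := hiso L hL (Coh.structureModule Z)
  haveI := hiso M hM (Coh.structureModule Z)
  haveI := hiso M hM ((tF L').obj (Coh.structureModule Z))
  have cL : Coh.IsCoh ((tF L').obj (Coh.structureModule Z)) :=
    Euler.isCoh_tF hO (Euler.isFinLocFree_of_isInvertible hL')
  have cM : Coh.IsCoh ((tF M').obj (Coh.structureModule Z)) :=
    Euler.isCoh_tF hO (Euler.isFinLocFree_of_isInvertible hM')
  have cLM : Coh.IsCoh ((tF M').obj ((tF L').obj (Coh.structureModule Z))) :=
    Euler.isCoh_tF cL (Euler.isFinLocFree_of_isInvertible hM')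
  have e1 : ch A ((tF L).obj ((Scheme.Modules.pushforward i).obj (Coh.structureModule Z))) = ch A L' :=
    (ch_of_iso A (twistPush i _)).trans ((hpush _ cL).trans (ch_of_iso A (OX.tensorUnitLeftIso L')))
  have e2 : ch A ((tF M).obj ((Scheme.Modules.pushforward i).obj (Coh.structureModule Z))) = ch A M' :=
    (ch_of_iso A (twistPush i _)).trans ((hpush _ cM).trans (ch_of_iso A (OX.tensorUnitLeftIso M')))
  have e3 : ch A ((tF M).obj ((tF L).obj ((Scheme.Modules.pushforward i).obj (Coh.structureModule Z)))) =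
      ch A ((tF M').obj L') :=
    (ch_of_iso A ((tF M).mapIso (twistPush i _) ≪≫ twistPush i _)).trans
      ((hpush _ cLM).trans (ch_of_iso A ((tF M').mapIso (OX.tensorUnitLeftIso L'))))
  rw [e1, e2, e3, hpush _ hO]
  exact ch_tensor_integral A hdZ hL' hM'

include hd in
theorem P_of_isCoh (F : X.Modules) (hF : Coh.IsCoh F) : P A F := by
  haveI := isNoetherian_of_proper A (X := X)
  refine QCoh.devissage (P A) (fun M N ⟨e⟩ h => P_of_iso A e h) (fun M h => P_of_isZero A h)
    (P_two_of_three A hd) Set.univ (fun Z i _ _ _ => ?_) F hF (Set.subset_univ _)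
  have hr : closure {i (genericPoint Z)} = Set.range i := QCoh.closure_singleton_eq_range i
  haveI := Snapper.isIntegral_pt (i (genericPoint Z))
  exact ⟨Snapper.ptMod (i (genericPoint Z)), Snapper.isCoh_ptMod _, hr ▸ Snapper.support_ptMod _,
    Snapper.nonempty_ptMod_stalk_equiv _, P_push A hd _⟩

include hd in
/-- `χ(L ⊗ M) + χ(O) = χ(L) + χ(M)`. -/
theorem ch_tensorMod {L M : X.Modules} (hL : PicF.IsInvertible L) (hM : PicF.IsInvertible M) :
    ch A (CohB1.tensorMod L M) + ch A (Coh.structureModule X) = ch A L + ch A M := by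
  haveI := isNoetherian_of_proper A (X := X)
  have h := P_of_isCoh A hd (Coh.structureModule X) (Euler.isCoh_of_isInvertible Euler.isInvertible_structure)
    L M hL hM
  have eL : (tF L).obj (Coh.structureModule X) ≅ L := OX.tensorUnitLeftIso L
  have eM : (tF M).obj (Coh.structureModule X) ≅ M := OX.tensorUnitLeftIso M
  rw [ch_of_iso A ((tF M).mapIso eL), ch_of_iso A eL, ch_of_iso A eM] at h
  exact h

/-- The degree `χ(L) − χ(O)`. -/
def deg (L : X.Modules) : ℤ := ch A L - ch A (Coh.structureModule X)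

include hd in
theorem deg_tensorMod {L M : X.Modules} (hL : PicF.IsInvertible L) (hM : PicF.IsInvertible M) :
    deg A (CohB1.tensorMod L M) = deg A L + deg A M := by
  have := ch_tensorMod A hd hL hM
  rw [deg, deg, deg]
  linarith

include hd in
theorem deg_tensorPow {L : X.Modules} (hL : PicF.IsInvertible L) : ∀ n : ℕ,
    deg A (CohB1.tensorPow L n) = n * deg A L
  | 0 => by simp [deg, CohB1.tensorPow]
  | n + 1 => by
    rw [CohB1.tensorPow, deg_tensorMod A hd (Ample.isInvertible_tensorPow hL n) hL, deg_tensorPow hL n]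
    push_cast
    ring

include hd in
theorem deg_tensorList : ∀ {l : List X.Modules}, (∀ M ∈ l, PicF.IsInvertible M) →
    PicF.IsInvertible (FGA.tensorList l) ∧ deg A (FGA.tensorList l) = (l.map (deg A)).sum
  | [], _ => ⟨Euler.isInvertible_structure, by simp [deg, FGA.tensorList]⟩
  | M :: l, h => by
    obtain ⟨h1, h2⟩ := deg_tensorList (l := l) fun N hN => h N (List.mem_cons_of_mem _ hN)
    refine ⟨Ample.isInvertible_tensorMod (h M (List.mem_cons_self ..)) h1, ?_⟩
    rw [FGA.tensorList, deg_tensorMod A hd (h M (List.mem_cons_self ..)) h1, h2, List.map_cons, List.sum_cons]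

include hd in
theorem deg_multiTwist {r : ℕ} {L : Fin r → X.Modules} (hL : ∀ i, PicF.IsInvertible (L i)) (m : Fin r → ℕ) :
    PicF.IsInvertible (FGA.multiTwist L m) ∧ deg A (FGA.multiTwist L m) = ∑ i, (m i : ℤ) * deg A (L i) := by
  obtain ⟨h1, h2⟩ := deg_tensorList A hd (l := (List.finRange r).map fun i => CohB1.tensorPow (L i) (m i))
    (by simp only [List.mem_map]; rintro _ ⟨i, -, rfl⟩; exact Ample.isInvertible_tensorPow (hL i) _)
  refine ⟨h1, ?_⟩
  rw [FGA.multiTwist, h2, List.map_map, ← List.ofFn_eq_map, List.sum_ofFn]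
  exact Finset.sum_congr rfl fun i _ => deg_tensorPow A hd (hL i) _

end GrothLib.EulerLin16
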