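import Groth.Agent.S2420
import Groth.Agent.Lib.Euler.TensorSupport
import Groth.Agent.Lib.Euler.Vanish
import Groth.Agent.Lib.HilbArt9.Main
import Groth.Agent.Lib.CurvePoints.Basic
import Groth.Agent.Lib.FinGen9.Basic
import Groth.Agent.Lib.SubCurve16.Stalk
import Groth.Agent.Lib.IdealMul9.Basic

/-!
# Euler characteristics by lengths over an Artinian base: twisting modules of finite support
-/

set_option autoImplicit false
set_option linter.all false
set_option backward.isDefEq.respectTransparency false
set_option maxHeartbeats 1000000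

universe u

open CategoryTheory CategoryTheory.Limits AlgebraicGeometry TopologicalSpace
open GrothLib.Euler (tF)
open GrothLib.QCoh (stalkLin)

noncomputable section

namespace GrothLib.EulerLin16

variable (A : Type u) [CommRing A] {X : Scheme.{u}} [X.Over (Spec (CommRingCat.of A))]

/-- The Euler characteristic by lengths. -/
def ch (F : X.Modules) : ℤ :=
  ((Module.length A (Coh.HH X F 0)).toNat : ℤ) - ((Module.length A (Coh.HH X F 1)).toNat : ℤ)

theorem ch_of_iso {F G : X.Modules} (e : F ≅ G) : ch A F = ch A G := by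
  rw [ch, ch, (Euler.hhEquiv (A := A) e 0).length_eq, (Euler.hhEquiv (A := A) e 1).length_eq]

theorem ch_of_isZero {F : X.Modules} (h : IsZero F) : ch A F = 0 := by
  haveI := Cohom.subsingleton_HH_of_isZero h 0
  haveI := Cohom.subsingleton_HH_of_isZero h 1
  simp [ch, Module.length_eq_zero]

variable [IsArtinianRing A] [IsProper (X ↘ Spec (CommRingCat.of A))] (hd : topologicalKrullDim X ≤ 1)

include A in
theorem isNoetherian_of_proper : IsNoetherian X := by
  haveI : IsLocallyNoetherian X := LocallyOfFiniteType.isLocallyNoetherian (X ↘ Spec (CommRingCat.of A))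
  haveI : CompactSpace X := QuasiCompact.compactSpace_of_compactSpace (X ↘ Spec (CommRingCat.of A))
  exact {}

include hd in
theorem ch_add {S : ShortComplex X.Modules} (hS : S.ShortExact) (h1 : Coh.IsCoh S.X₁) (h2 : Coh.IsCoh S.X₂)
    (h3 : Coh.IsCoh S.X₃) : ch A S.X₂ = ch A S.X₁ + ch A S.X₃ := by
  haveI := isNoetherian_of_proper A (X := X)
  have hv : ∀ (M : X.Modules), Coh.IsCoh M → ∀ i, 1 < i → Subsingleton (Coh.HH X M i) := fun M hM i hi =>
    haveI := hM.1
    Euler.subsingleton_HH_of_dim_le_one (A := A) hd M i hi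
  have key := Groth.Agent.S2420.result A X S hS h1 h2 h3 1
    fun i hi => ⟨hv _ h1 i hi, hv _ h2 i hi, hv _ h3 i hi⟩
  simp only [Finset.sum_range_succ, Finset.sum_range_zero, zero_add, pow_zero, one_mul, pow_one, neg_mul] at key
  rw [ch, ch, ch]
  linarith

theorem stalkLin_zero' {P Q : X.Modules} (x : X) (e : P.presheaf.stalk x) : stalkLin (0 : P ⟶ Q) x e = 0 :=
  LinearMap.congr_fun (congrArg ModuleCat.Hom.hom ((OX.stalk x).map_zero P Q)) e

theorem germ_smul' (M : X.Modules) (a : A) (h : Coh.HH X M 0) (x : X) :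
    M.presheaf.germ ⊤ x trivial (ProjCoh.H0top M (a • h)) =
      X.presheaf.germ ⊤ x trivial (show Γ(X, ⊤) from Coh.toGlobal (X ↘ Spec (CommRingCat.of A)) a) •
        M.presheaf.germ ⊤ x trivial (ProjCoh.H0top M h) := by
  rw [ProjCoh.H0top_smul, WeakAss.germ_smul]

/-- A finitely supported module is unchanged in length by a line bundle twist. -/
theorem ch_tF_of_finite_support {M E : X.Modules} (hE : PicF.IsInvertible E)
    (hfin : (CohB1.support M).Finite) (hcl : ∀ x ∈ CohB1.support M, IsClosed ({x} : Set X)) :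
    ch A ((tF E).obj M) = ch A M := by
  classical
  set N := (tF E).obj M
  have hsub : CohB1.support N = CohB1.support M := SubCurve16.support_tF hE
  have hfinN := hsub.symm ▸ hfin
  have hclN : ∀ x ∈ CohB1.support N, IsClosed ({x} : Set X) := fun x hx => hcl x (hsub ▸ hx)
  haveI := Euler.subsingleton_HH_of_finite_support N hfinN hclN 1 le_rfl
  haveI := Euler.subsingleton_HH_of_finite_support M hfin hcl 1 le_rfl
  have ψ : ∀ x : X, N.presheaf.stalk x ≃ₗ[X.presheaf.stalk x] M.presheaf.stalk x :=
    fun x => (SubCurve16.nonempty_stalk_tF (M := M) hE x).some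
  let gM := AddEquiv.ofBijective
    (AddMonoidHom.mk' (fun (s : Γ(M, ⊤)) (x : CohB1.support M) =>
      (M.presheaf.germ ⊤ (x : X) trivial s : M.presheaf.stalk (x : X))) fun s t => funext fun x => map_add _ s t)
    (Euler.bijective_germs M hfin hcl)
  let φ : Coh.HH X N 0 → Coh.HH X M 0 := fun h =>
    (ProjCoh.H0top M).symm (gM.symm fun x => ψ x (N.presheaf.germ ⊤ (x : X) trivial (ProjCoh.H0top N h)))
  have hφ : ∀ h (x : CohB1.support M), M.presheaf.germ ⊤ (x : X) trivial (ProjCoh.H0top M (φ h)) =
      ψ x (N.presheaf.germ ⊤ (x : X) trivial (ProjCoh.H0top N h)) := by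
    intro h x
    simp only [φ, AddEquiv.apply_symm_apply]
    exact congrFun (gM.apply_symm_apply _) x
  have hext : ∀ (u v : Coh.HH X M 0),
      (∀ x : CohB1.support M, M.presheaf.germ ⊤ (x : X) trivial (ProjCoh.H0top M u) =
        M.presheaf.germ ⊤ (x : X) trivial (ProjCoh.H0top M v)) → u = v :=
    fun u v h => (ProjCoh.H0top M).injective (gM.injective (funext h))
  let Φ : Coh.HH X N 0 →ₗ[A] Coh.HH X M 0 :=
    { toFun := φ
      map_add' := fun a b => hext _ _ fun x => by simp only [hφ, map_add]
      map_smul' := fun a b => hext _ _ fun x => by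
        rw [hφ, germ_smul', map_smul, RingHom.id_apply, germ_smul', hφ] }
  have hbij : Function.Bijective Φ := by
    refine ⟨(injective_iff_map_eq_zero Φ).2 fun h h0 => ?_, fun v => ?_⟩
    · apply (ProjCoh.H0top N).injective
      refine (QCoh.section_eq_zero_of_germ N _ fun x _ => ?_).trans (map_zero _).symm
      by_cases hx : x ∈ CohB1.support N
      · refine (ψ x).injective ?_
        have h2 := hφ h ⟨x, hsub ▸ hx⟩
        rw [show φ h = 0 from h0, map_zero, map_zero] at h2
        rw [map_zero]; exact h2.symm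
      · exact @Subsingleton.elim _ (QCoh.stalk_subsingleton_of_notMem hx) _ _
    · obtain ⟨s, hs⟩ := (Euler.bijective_germs N hfinN hclN).2
        fun x => (ψ x).symm (M.presheaf.germ ⊤ (x : X) trivial (ProjCoh.H0top M v))
      refine ⟨(ProjCoh.H0top N).symm s, hext _ _ fun x => ?_⟩
      refine (hφ _ x).trans ?_
      rw [AddEquiv.apply_symm_apply, show N.presheaf.germ ⊤ (x : X) trivial s = _ from
        congrFun hs ⟨x, hsub.symm ▸ x.2⟩, LinearEquiv.apply_symm_apply]
  rw [ch, ch, (LinearEquiv.ofBijective Φ hbij).length_eq, Module.length_eq_zero (R := A) (M := Coh.HH X N 1),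
    Module.length_eq_zero (R := A) (M := Coh.HH X M 1)]

include hd in
/-- Additivity after a twist. -/
theorem ch_tF_add {S : ShortComplex X.Modules} (hS : S.ShortExact) (h1 : Coh.IsCoh S.X₁) (h2 : Coh.IsCoh S.X₂)
    (h3 : Coh.IsCoh S.X₃) {E : X.Modules} (hE : PicF.IsInvertible E) :
    ch A ((tF E).obj S.X₂) = ch A ((tF E).obj S.X₁) + ch A ((tF E).obj S.X₃) := by
  have hlf := Euler.isFinLocFree_of_isInvertible hE
  haveI := isNoetherian_of_proper A (X := X)
  have hT := OX.tensor_map_shortExact (OX.flat_of_isFinLocFree hlf) hS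
  have c1 : Coh.IsCoh ((tF E).obj S.X₁) := Euler.isCoh_tF h1 hlf
  have c2 : Coh.IsCoh ((tF E).obj S.X₂) := Euler.isCoh_tF h2 hlf
  have c3 : Coh.IsCoh ((tF E).obj S.X₃) := Euler.isCoh_tF h3 hlf
  have key := @ch_add A _ X _ _ _ hd _ hT
  simp only [ShortComplex.map_X₁, ShortComplex.map_X₂, ShortComplex.map_X₃] at key
  exact key c1 c2 c3

variable [IsIntegral X]

include A hd in
theorem finite_of_notMem {Q : X.Modules} (hQ : Coh.IsCoh Q) (hη : genericPoint X ∉ CohB1.support Q) :
    (CohB1.support Q).Finite ∧ ∀ x ∈ CohB1.support Q, IsClosed ({x} : Set X) := by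
  haveI := isNoetherian_of_proper A (X := X)
  exact ⟨CurvePoints.finite_of_isClosed hd (QCoh.isClosed_support_of_isCoh hQ) hη,
    fun x hx => CurvePoints.isClosed_singleton hd fun h => hη (h ▸ hx)⟩

include hd in
/-- Twisting does not change the difference along a generically bijective map. -/
theorem ch_tF_sub {P Q E : X.Modules} (hE : PicF.IsInvertible E) (hP : Coh.IsCoh P) (hQ : Coh.IsCoh Q)
    (f : P ⟶ Q) (hf : Function.Bijective (stalkLin f (genericPoint X))) :
    ch A ((tF E).obj Q) - ch A Q = ch A ((tF E).obj P) - ch A P := by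
  haveI := isNoetherian_of_proper A (X := X)
  have hK := QCoh.isCoh_kernel f hP hQ
  have hC := QCoh.isCoh_cokernel f hP hQ
  have hηK : genericPoint X ∉ CohB1.support (kernel f) := fun h => by
    refine h (subsingleton_of_forall_eq 0 fun v => QCoh.stalkLin_injective (kernel.ι f) _ (hf.1 ?_))
    rw [← QCoh.stalkLin_comp, kernel.condition, stalkLin_zero', map_zero, map_zero]
  have hηC := QCoh.notMem_support_cokernel_of_surjective f hf.2
  obtain ⟨hKf, hKc⟩ := finite_of_notMem A hd hK hηK
  obtain ⟨hCf, hCc⟩ := finite_of_notMem A hd hC hηC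
  obtain ⟨I, a, b, w₁, w₂, hS₁, hS₂, ⟨eI⟩⟩ := HilbArt9.exists_split f
  have hI : Coh.IsCoh I := QCoh.isCoh_of_iso eI (QCoh.isCoh_cokernel _ hK hP)
  have h1 := ch_add A hd hS₁ hK hP hI
  have h2 := ch_add A hd hS₂ hI hQ hC
  have h1' := ch_tF_add A hd hS₁ hK hP hI hE
  have h2' := ch_tF_add A hd hS₂ hI hQ hC hE
  dsimp only at h1 h2 h1' h2'
  have h3 := ch_tF_of_finite_support A (M := kernel f) hE hKf hKc
  have h4 := ch_tF_of_finite_support A (M := cokernel f) hE hCf hCc
  linarith

include hd in
/-- Degrees add on an integral curve over an Artinian ring. -/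
theorem ch_tensor_integral {L M : X.Modules} (hL : PicF.IsInvertible L) (hM : PicF.IsInvertible M) :
    ch A ((tF M).obj L) + ch A (Coh.structureModule X) = ch A L + ch A M := by
  haveI := isNoetherian_of_proper A (X := X)
  have hO : Coh.IsCoh (Coh.structureModule X) := Euler.isCoh_of_isInvertible Euler.isInvertible_structure
  have hLc := Euler.isCoh_of_isInvertible hL
  obtain ⟨eO⟩ := SubCurve16.nonempty_stalkEquiv (Euler.isInvertible_structure (X := X)) (genericPoint X)
  obtain ⟨eL⟩ := SubCurve16.nonempty_stalkEquiv hL (genericPoint X)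
  obtain ⟨I, ψ, hψ⟩ := FinGen9.exists_hom_idealMul (Coh.structureModule X) L hO hLc.1 (eO.trans eL.symm)
  let j := Dual3.idealMulι I (Coh.structureModule X)
  haveI : Mono j := inferInstanceAs (Mono (kernel.ι _))
  have hN : Coh.IsCoh ((Dual3.idealMul I).obj (Coh.structureModule X)) := IdealMul9.isCoh_idealMul I hO
  let v := (Equiv.ofBijective _ hψ).symm (eL.symm 1)
  have hv : v ≠ 0 := fun h => by
    have h1 := (Equiv.ofBijective _ hψ).apply_symm_apply (eL.symm 1)
    change stalkLin ψ (genericPoint X) v = eL.symm 1 at h1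
    rw [h, map_zero] at h1
    have h2 := congrArg eL h1
    rw [map_zero, LinearEquiv.apply_symm_apply] at h2
    exact zero_ne_one (α := X.presheaf.stalk (genericPoint X)) h2
  have hj : Function.Bijective (stalkLin j (genericPoint X)) :=
    ⟨QCoh.stalkLin_injective j _, SubCurve16.surjective_of_ne_zero (Field.toIsField X.functionField) eO _ (a := v)
      fun h => hv (QCoh.stalkLin_injective j _ (h.trans (map_zero _).symm))⟩
  have h1 := ch_tF_sub A hd hM hN hO j hj
  have h2 := ch_tF_sub A hd hM hN hLc ψ hψ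
  have h3 : ch A ((tF M).obj (Coh.structureModule X)) = ch A M := ch_of_iso A (OX.tensorUnitLeftIso M)
  linarith

end GrothLib.EulerLin16
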